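import Mathlib
import Cfsg.Prelude.Def_Perm
import Cfsg.Agent.S0736

/-!
Two-homogeneous groups that are not doubly transitive: parity, transitivity and primitivity.
-/

set_option autoImplicit false

namespace Cfsg.Lib.TwoHomog

open MulAction Pointwise

variable {α : Type*} [Fintype α] [DecidableEq α] {G : Subgroup (Equiv.Perm α)}

theorem pair_move (h2 : IsPretransitive G (Set.powersetCard α 2)) {a b c d : α} (hab : a ≠ b) (hcd : c ≠ d) :
    ∃ g : G, (g • a = c ∧ g • b = d) ∨ (g • a = d ∧ g • b = c) := by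
  let P : Set.powersetCard α 2 := ⟨{a, b}, Finset.card_pair hab⟩
  let Q : Set.powersetCard α 2 := ⟨{c, d}, Finset.card_pair hcd⟩
  obtain ⟨g, hg⟩ := exists_smul_eq G P Q
  refine ⟨g, ?_⟩
  have h : g • ({a, b} : Finset α) = {c, d} := congrArg Subtype.val hg
  have ha : g • a ∈ ({c, d} : Finset α) := h ▸ Finset.smul_mem_smul_finset (by simp)
  have hb : g • b ∈ ({c, d} : Finset α) := h ▸ Finset.smul_mem_smul_finset (by simp)
  have hne : g • a ≠ g • b := fun e => hab (smul_left_cancel g e)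
  simp only [Finset.mem_insert, Finset.mem_singleton] at ha hb
  rcases ha with ha | ha <;> rcases hb with hb | hb
  · exact absurd (ha.trans hb.symm) hne
  · exact Or.inl ⟨ha, hb⟩
  · exact Or.inr ⟨ha, hb⟩
  · exact absurd (ha.trans hb.symm) hne

theorem odd_order (h2 : IsPretransitive G (Set.powersetCard α 2)) (hn2 : ¬ IsMultiplyPretransitive G α 2) :
    Odd (Nat.card G) := by
  by_contra he
  rw [Nat.not_odd_iff_even, even_iff_two_dvd] at he
  haveI : Fact (Nat.Prime 2) := ⟨Nat.prime_two⟩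
  obtain ⟨t, ht⟩ := exists_prime_orderOf_dvd_card' 2 he
  obtain ⟨p, hp⟩ : ∃ p, t • p ≠ p := by
    by_contra hall
    push Not at hall
    have : t = 1 := Subtype.ext (Equiv.ext fun x => hall x)
    simp [this] at ht
  have htt : t • t • p = p := by
    rw [smul_smul, ← pow_two, orderOf_dvd_iff_pow_eq_one.1 (dvd_of_eq ht), one_smul]
  apply hn2
  rw [is_two_pretransitive_iff]
  intro a b c d hab hcd
  have key : ∀ {u v : α}, u ≠ v → ∃ g : G, g • p = u ∧ g • (t • p) = v := by
    intro u v huv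
    obtain ⟨g, hg | hg⟩ := pair_move h2 hp.symm huv
    · exact ⟨g, hg⟩
    · exact ⟨g * t, by rw [mul_smul]; exact hg.2, by rw [mul_smul, htt]; exact hg.1⟩
  obtain ⟨g, hg1, hg2⟩ := key hab
  obtain ⟨k, hk1, hk2⟩ := key hcd
  exact ⟨k * g⁻¹, by rw [mul_smul, ← hg1, inv_smul_smul, hk1], by rw [mul_smul, ← hg2, inv_smul_smul, hk2]⟩

theorem three_le (hne : G ≠ ⊥) (h2 : IsPretransitive G (Set.powersetCard α 2))
    (hn2 : ¬ IsMultiplyPretransitive G α 2) : 3 ≤ Fintype.card α := by
  by_contra hlt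
  have hodd := odd_order h2 hn2
  have h1 : Nat.card G ∣ Nat.factorial (Fintype.card α) := by
    rw [← Fintype.card_perm, ← Nat.card_eq_fintype_card]
    exact Subgroup.card_subgroup_dvd_card G
  have h2' : Nat.card G ∣ 2 := h1.trans (Nat.factorial_dvd_factorial (show Fintype.card α ≤ 2 by omega))
  rcases (Nat.dvd_prime Nat.prime_two).1 h2' with h | h
  · exact hne (Subgroup.card_eq_one.1 h)
  · rw [h] at hodd
    exact absurd hodd (by decide)

theorem pretransitive (hne : G ≠ ⊥) (h2 : IsPretransitive G (Set.powersetCard α 2))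
    (hn2 : ¬ IsMultiplyPretransitive G α 2) : IsPretransitive G α := by
  have h3 := three_le hne h2 hn2
  have h1 := Cfsg.Agent.S0736.result G (le_refl 2) h2 (fun q _ hq2 => by
    have := Nat.le_of_dvd two_pos hq2
    omega)
  refine ⟨fun a b => ?_⟩
  let P : Set.powersetCard α (2 - 1) := ⟨{a}, Finset.card_singleton a⟩
  let Q : Set.powersetCard α (2 - 1) := ⟨{b}, Finset.card_singleton b⟩
  obtain ⟨g, hg⟩ := h1.exists_smul_eq P Q
  refine ⟨g, ?_⟩
  have h : g • ({a} : Finset α) = {b} := congrArg Subtype.val hg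
  rwa [Finset.smul_finset_singleton, Finset.singleton_inj] at h

theorem primitive (hne : G ≠ ⊥) (h2 : IsPretransitive G (Set.powersetCard α 2))
    (hn2 : ¬ IsMultiplyPretransitive G α 2) : IsPreprimitive G α := by
  haveI := pretransitive hne h2 hn2
  refine { isTrivialBlock_of_isBlock := fun {B} hB => ?_ }
  by_cases hsub : B.Subsingleton
  · exact Or.inl hsub
  obtain ⟨a, ha, b, hb, hab⟩ := Set.not_subsingleton_iff.1 hsub
  refine Or.inr (Set.eq_univ_of_forall fun c => ?_)
  by_cases hca : c = a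
  · exact hca ▸ ha
  obtain ⟨g, hg⟩ := pair_move h2 hab (Ne.symm hca)
  have hgB : g • B = B := by
    rcases hg with hg | hg
    · exact hB.smul_eq_of_mem ha (hg.1.symm ▸ ha)
    · exact hB.smul_eq_of_mem hb (hg.2.symm ▸ ha)
  rw [← hgB]
  rcases hg with hg | hg
  · exact hg.2 ▸ Set.smul_mem_smul_set hb
  · exact hg.1 ▸ Set.smul_mem_smul_set ha

end Cfsg.Lib.TwoHomog
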