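import Mathlib
import Cfsg.Prelude.Def_Perm
import Cfsg.Agent.TwoHomog.Basic
import Cfsg.Agent.S0547
import Cfsg.Agent.Coprime.Hall
import Cfsg.Agent.LinearPerm.SolvableTransitive.Main

/-!
Kantor's theorem on two-homogeneous groups that are not doubly transitive, for solvable groups.
-/

set_option autoImplicit false
set_option linter.style.haveILetI false
set_option linter.unusedSectionVars false

namespace Cfsg.Lib.TwoHomog

open MulAction

variable {α : Type*} [Fintype α] [DecidableEq α] {G : Subgroup (Equiv.Perm α)}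

/-- A group of odd order has no element moving a point of an action to its partner and back. -/
theorem fixed_of_swapped {H X : Type*} [Group H] [Finite H] [MulAction H X] (hH : Odd (Nat.card H))
    {h : H} {x y : X} (hxy : h • x = y) (hyx : h • y = x) : x = y := by
  obtain ⟨k, hk⟩ := (Odd.of_dvd_nat hH (orderOf_dvd_natCard h))
  have h2 : ∀ j : ℕ, (h ^ (2 * j)) • x = x := by
    intro j
    induction j with
    | zero => simp
    | succ j ih => rw [show 2 * (j + 1) = 2 * j + 2 by ring, pow_add, mul_smul, pow_two, mul_smul, hxy, hyx, ih]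
  have h1 : h ^ (2 * k + 1) = 1 := hk ▸ pow_orderOf_eq_one h
  rw [pow_succ'] at h1
  have := congrArg (· • x) h1
  simp only [mul_smul, one_smul, h2, hxy] at this
  exact this.symm

theorem kantor_of_solvable (hne : G ≠ ⊥) (h2 : IsPretransitive G (Set.powersetCard α 2))
    (hn2 : ¬ IsMultiplyPretransitive G α 2) (hsol : Group.IsSolvable G) :
    ∃ (p f : ℕ) (_ : Fact p.Prime), p ≠ 2 ∧ Fintype.card α = p ^ f ∧ p ^ f % 4 = 3 ∧
      ∃ e : α ≃ GaloisField p f,
        (∀ g : G, e.symm.trans (((g : Equiv.Perm α)).trans e) ∈ Cfsg.semiaffineGroup (GaloisField p f)) ∧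
        ∀ b : GaloisField p f, ∃ g : G, ∀ x : α, e ((g : Equiv.Perm α) x) = e x + b := by
  classical
  haveI := hsol
  have hodd := odd_order h2 hn2
  have h3 := three_le hne h2 hn2
  haveI := pretransitive hne h2 hn2
  have hprim := primitive hne h2 hn2
  haveI : Nonempty α := Fintype.card_pos_iff.1 (by omega)
  haveI : Nontrivial G := (Subgroup.nontrivial_iff_ne_bot G).2 hne
  obtain ⟨M, -, hMn, hMne, hmin⟩ := Cfsg.Lib.Coprime.exists_minimal_normal (G := G) (K := ⊤) inferInstance top_ne_bot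
  haveI := hMn
  obtain ⟨hMc, p, hp, hpM, hexp⟩ := Cfsg.Lib.Coprime.minimal_normal_solvable (N := M) inferInstance hMne hmin
  obtain ⟨htr, hstab, p', d, hp', hd, hcard, hcardM⟩ := Cfsg.Agent.S0547.result hprim M hMne hmin
  haveI : Fact p.Prime := ⟨hp⟩
  obtain rfl : p' = p := by
    obtain ⟨k, hk⟩ := IsPGroup.iff_card.1 hpM
    have : p' ∣ p ^ k := hk ▸ hcardM ▸ dvd_pow_self p' hd.ne'
    exact (Nat.prime_dvd_prime_iff_eq hp' hp).1 (hp'.dvd_of_dvd_pow this)
  have hp2 : p' ≠ 2 := by
    rintro rfl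
    have h2d : 2 ∣ Nat.card G := (dvd_pow_self 2 hd.ne').trans (hcardM ▸ Subgroup.card_subgroup_dvd_card M)
    exact (Nat.not_odd_iff_even.2 (even_iff_two_dvd.2 h2d)) hodd
  obtain ⟨ω⟩ := ‹Nonempty α›
  let H : Subgroup G := stabilizer G ω
  have hinjω : Function.Injective fun m : M => m • ω := fun a b e => by
    have : b⁻¹ * a ∈ stabilizer M ω := by
      rw [mem_stabilizer_iff, mul_smul]
      exact inv_smul_eq_iff.2 e
    rw [hstab, Subgroup.mem_bot, inv_mul_eq_one] at this
    exact this.symm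
  let e0 : M ≃ α := Equiv.ofBijective _ ⟨hinjω, fun x => htr.exists_smul_eq ω x⟩
  have he0 : ∀ m : M, e0 m = (m : G) • ω := fun m => rfl
  let φ : H →* MulAut M := (MulAut.conjNormal (H := M)).comp H.subtype
  have hφ : ∀ (h : H) (m : M), e0 (φ h m) = (h : G) • e0 m := by
    intro h m
    have hω : ((h : G)⁻¹) • ω = ω := inv_smul_eq_iff.2 h.2.symm
    rw [he0, he0]
    simp only [φ, MonoidHom.coe_comp, Function.comp_apply, Subgroup.coe_subtype, MulAut.conjNormal_apply,
      mul_smul, hω]
  letI : MulAction H M := MulAction.compHom M φ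
  have hsmul : ∀ (h : H) (m : M), h • m = φ h m := fun h m => rfl
  have hHodd : Odd (Nat.card H) := hodd.of_dvd_nat (Subgroup.card_subgroup_dvd_card H)
  have hnotinv : ∀ m : M, m ≠ 1 → ∀ h : H, h • m ≠ m⁻¹ := by
    intro m hm h hh
    have hback : h • m⁻¹ = m := by rw [hsmul, map_inv, ← hsmul, hh, inv_inv]
    have heq := fixed_of_swapped hHodd hh hback
    have hsq : m ^ 2 = 1 := by rw [pow_two]; exact mul_eq_one_iff_eq_inv.2 heq
    have hmp : m ^ p' = 1 := Subtype.ext (by rw [Subgroup.coe_pow]; exact hexp m m.2)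
    have h1 := pow_gcd_eq_one.2 ⟨hsq, hmp⟩
    rw [show Nat.gcd 2 p' = 1 from (Nat.coprime_primes Nat.prime_two hp).2 (Ne.symm hp2), pow_one] at h1
    exact hm h1
  have hcases : ∀ m n : M, m ≠ 1 → n ≠ 1 → ∃ h : H, h • m = n ∨ h • m = n⁻¹ := by
    intro m n hm hn
    have hne' : ∀ k : M, k ≠ 1 → ω ≠ e0 k := fun k hk e => hk (hinjω (show k • ω = (1 : M) • ω by
      rw [one_smul]; exact e.symm))
    obtain ⟨g, ⟨h1, h2'⟩ | ⟨h1, h2'⟩⟩ := pair_move h2 (hne' m hm) (hne' n hn)
    · refine ⟨⟨g, h1⟩, Or.inl (e0.injective ?_)⟩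
      rw [hsmul, hφ]
      exact h2'
    · have hmem : (n : G)⁻¹ * g ∈ H := by
        show ((n : G)⁻¹ * g) • ω = ω
        rw [mul_smul, h1, he0, inv_smul_smul]
      refine ⟨⟨_, hmem⟩, Or.inr (e0.injective ?_)⟩
      rw [hsmul, hφ, he0 n⁻¹]
      show ((n : G)⁻¹ * g) • e0 m = _
      rw [mul_smul, h2', Subgroup.coe_inv]
  haveI : Nontrivial M := (Subgroup.nontrivial_iff_ne_bot M).2 hMne
  have hmod : p' ^ d % 4 = 3 := by
    obtain ⟨m, hm⟩ := exists_ne (1 : M)
    let O : Set M := orbit H m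
    have hO : Odd O.ncard := by
      rw [← index_stabilizer]
      exact hHodd.of_dvd_nat (Subgroup.index_dvd_card _)
    have hdisj : Disjoint O ((fun x : M => x⁻¹) '' O) := by
      rw [Set.disjoint_left]
      rintro x ⟨a, rfl⟩ ⟨y, ⟨b, rfl⟩, hy⟩
      refine hnotinv m hm (b⁻¹ * a) ?_
      have hy' : a • m = b • m⁻¹ := by
        rw [hsmul b, map_inv, ← hsmul b]; exact hy.symm
      rw [mul_smul, hy', inv_smul_smul]
    have hun : O ∪ (fun x : M => x⁻¹) '' O = {(1 : M)}ᶜ := by
      ext x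
      constructor
      · rintro (⟨a, rfl⟩ | ⟨y, ⟨a, rfl⟩, rfl⟩)
        · simp only [Set.mem_compl_iff, Set.mem_singleton_iff]
          rw [hsmul]
          exact fun e => hm ((φ a).map_eq_one_iff.1 e)
        · simp only [Set.mem_compl_iff, Set.mem_singleton_iff, inv_eq_one]
          rw [hsmul]
          exact fun e => hm ((φ a).map_eq_one_iff.1 e)
      · intro hx
        obtain ⟨h, hh | hh⟩ := hcases m x hm hx
        · exact Or.inl ⟨h, hh⟩
        · exact Or.inr ⟨x⁻¹, ⟨h, hh⟩, inv_inv x⟩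
    have hc := congrArg Set.ncard hun
    rw [Set.ncard_union_eq hdisj, Set.ncard_image_of_injective _ inv_injective, Set.ncard_compl,
      Set.ncard_singleton, hcardM] at hc
    obtain ⟨k, hk⟩ := hO
    have hpos : 0 < p' ^ d := pow_pos hp.pos d
    omega
  letI : CommGroup M := { (inferInstance : Group M) with mul_comm := fun a b => hMc.is_comm.comm a b }
  haveI hmodule : Module (ZMod p') (Additive M) := AddCommGroup.zmodModule (fun x => by
    apply Additive.toMul.injective
    rw [toMul_nsmul, toMul_zero]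
    exact Subtype.ext (by rw [Subgroup.coe_pow]; exact hexp _ x.toMul.2))
  haveI : Nontrivial (Additive M) := inferInstance
  let toL : AddAut (Additive M) → (Additive M ≃ₗ[ZMod p'] Additive M) := fun e =>
    e.toLinearEquiv fun c v => ZMod.map_smul e c v
  let ρ : H × (ZMod p')ˣ →* (Additive M ≃ₗ[ZMod p'] Additive M) :=
    { toFun := fun x => (toL (MulEquiv.toAdditive (φ x.1))).trans
        (DistribMulAction.toLinearEquiv (ZMod p') (Additive M) x.2)
      map_one' := by
        refine LinearEquiv.ext fun v => ?_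
        show (1 : (ZMod p')ˣ) • Additive.ofMul (φ 1 v.toMul) = v
        rw [map_one, one_smul]; rfl
      map_mul' := fun x y => by
        refine LinearEquiv.ext fun v => ?_
        show (x.2 * y.2) • Additive.ofMul (φ (x.1 * y.1) v.toMul) =
          x.2 • Additive.ofMul (φ x.1 (y.2 • Additive.ofMul (φ y.1 v.toMul)).toMul)
        have hcomm : Additive.ofMul (φ x.1 (y.2 • Additive.ofMul (φ y.1 v.toMul)).toMul) =
            y.2 • Additive.ofMul (φ x.1 (φ y.1 v.toMul)) :=
          (toL (MulEquiv.toAdditive (φ x.1))).map_smul (y.2 : ZMod p') (Additive.ofMul (φ y.1 v.toMul))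
        rw [hcomm, mul_smul, map_mul]; rfl }
  have hρ : ∀ (h : H) (u : (ZMod p')ˣ) (v : Additive M), ρ (h, u) v = u • Additive.ofMul (h • v.toMul) :=
    fun h u v => rfl
  have hR : Group.IsSolvable ρ.range :=
    solvable_of_surjective ρ.rangeRestrict_surjective
  haveI : Finite ρ.range := Finite.of_surjective _ ρ.rangeRestrict_surjective
  have htrans : ∀ v w : Additive M, v ≠ 0 → w ≠ 0 → ∃ g : ρ.range, ρ.range.subtype g v = w := by
    intro v w hv hw
    obtain ⟨h, hh | hh⟩ := hcases v.toMul w.toMul (fun e => hv (by simpa using e)) (fun e => hw (by simpa using e))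
    · refine ⟨⟨ρ (h, 1), ⟨_, rfl⟩⟩, ?_⟩
      show ρ (h, 1) v = w
      rw [hρ, hh, one_smul, ofMul_toMul]
    · refine ⟨⟨ρ (h, -1), ⟨_, rfl⟩⟩, ?_⟩
      show ρ (h, -1) v = w
      rw [hρ, hh, Units.smul_def, Units.val_neg, Units.val_one, neg_one_smul, ofMul_inv, neg_neg, ofMul_toMul]
  have hcardV : Nat.card (Additive M) = p' ^ d := by
    rw [Nat.card_congr Additive.toMul, hcardM]
  rcases Cfsg.Lib.SolvableTransitive.main hR ρ.range.subtype Subtype.val_injective htrans with
      ⟨F, iF, iFt, e, he⟩ | hexc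
  swap
  · rw [hcardV] at hexc
    simp only [Set.mem_insert_iff, Set.mem_singleton_iff] at hexc
    omega
  haveI : Fintype (GaloisField p' d) := Fintype.ofFinite _
  have hcF : Fintype.card F = Fintype.card (GaloisField p' d) := by
    rw [← Nat.card_eq_fintype_card, ← Nat.card_eq_fintype_card, GaloisField.card p' d hd.ne', ← hcardV]
    exact (Nat.card_congr e.toEquiv).symm
  let r : F ≃+* GaloisField p' d := FiniteField.ringEquivOfCardEq hcF
  let E : α ≃ GaloisField p' d := e0.symm.trans (Additive.ofMul.trans (e.toEquiv.trans r.toEquiv))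
  have hE : ∀ m : M, E (e0 m) = r (e (Additive.ofMul m)) := fun m => by simp [E]
  have htransl : ∀ (n : M) (x : α), E ((n : G) • x) = E x + r (e (Additive.ofMul n)) := by
    intro n x
    obtain ⟨m, rfl⟩ := e0.surjective x
    rw [show (n : G) • e0 m = e0 (n * m) by rw [he0, he0, Subgroup.coe_mul, mul_smul], hE, hE, ofMul_mul,
      map_add, map_add, add_comm]
  have hstabE : ∀ h : H, ∃ (a : (GaloisField p' d)ˣ) (σ : GaloisField p' d ≃+* GaloisField p' d),
      ∀ x, E ((h : G) • x) = (a : GaloisField p' d) * σ (E x) := by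
    intro h
    obtain ⟨a, σ, hs⟩ := he ⟨ρ (h, 1), ⟨_, rfl⟩⟩
    have hs' : ∀ m : M, e (Additive.ofMul (h • m)) = a * σ (e (Additive.ofMul m)) := fun m => by
      have := hs (Additive.ofMul m)
      simpa [hρ] using this
    have ha : a ≠ 0 := by
      rintro rfl
      obtain ⟨m, hm⟩ := exists_ne (1 : M)
      have := hs' m
      rw [zero_mul, ← map_zero e] at this
      exact hm ((φ h).map_eq_one_iff.1 (by simpa [hsmul] using e.injective this))
    refine ⟨Units.mk0 (r a) (by simpa using ha), r.symm.trans (σ.trans r), fun x => ?_⟩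
    obtain ⟨m, rfl⟩ := e0.surjective x
    rw [← hφ, hE, hE, ← hsmul, hs', map_mul]
    simp
  refine ⟨p', d, inferInstance, hp2, by rw [← Nat.card_eq_fintype_card, hcard], hmod, E, fun g => ?_, fun b => ?_⟩
  · let n : M := e0.symm (g • ω)
    have hn : (n : G) • ω = g • ω := by rw [← he0]; exact e0.apply_symm_apply _
    have hmem : (n : G)⁻¹ * g ∈ H := by
      show ((n : G)⁻¹ * g) • ω = ω
      rw [mul_smul, ← hn, inv_smul_smul]
    obtain ⟨a, σ, hs⟩ := hstabE ⟨_, hmem⟩
    refine ⟨a, r (e (Additive.ofMul n)), σ, fun y => ?_⟩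
    show E (g • E.symm y) = _
    have := hs (E.symm y)
    rw [show g • E.symm y = (n : G) • (((n : G)⁻¹ * g) • E.symm y) by rw [← mul_smul, mul_inv_cancel_left],
      htransl, this, E.apply_symm_apply]
  · refine ⟨((e.symm (r.symm b)).toMul : G), fun x => ?_⟩
    have := htransl (e.symm (r.symm b)).toMul x
    rwa [ofMul_toMul, AddEquiv.apply_symm_apply, RingEquiv.apply_symm_apply] at this

end Cfsg.Lib.TwoHomog
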